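import Cfsg.Agent.Blocks.Orth.Subsection
import Cfsg.Agent.Chars.Exceptional.Inner
import Cfsg.Agent.Chars.Brauer.Characterization

/-!
# Columns of `2`-elements not inverted by an involution

For a `2`-element `y` that no conjugate of the involution `t` inverts, the sums over a `2`-block of
`χ(t)²/χ(1) χ(y)`, `χ(1) χ(y)` and `χ(t) χ(y)` vanish.
-/

set_option autoImplicit false

namespace CfsgLib.Blocks

open Cfsg
open scoped ComplexConjugate

universe u

variable {G : Type u} [Group G] [Finite G] {M : Ideal AlgInt} {B : Set (IrrCharacter G)} {t y : G}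

/-- The three vanishing sums. -/
theorem columns_vanish (hM : IsPModular 2 M) (hB : IsPBlock M B) (ht : orderOf t = 2)
    (hy : ∃ k : ℕ, orderOf y = 2 ^ k)
    (hinv : ∀ g : G, (g * t * g⁻¹) * y * (g * t * g⁻¹)⁻¹ ≠ y⁻¹) :
    (∑ χ ∈ B.toFinite.toFinset,
        (χ : G → ℂ) t ^ 2 / (χ : G → ℂ) 1 * conj ((χ : G → ℂ) y) = 0) ∧
    (∑ χ ∈ B.toFinite.toFinset, (χ : G → ℂ) 1 * conj ((χ : G → ℂ) y) = 0) ∧
    ∑ χ ∈ B.toFinite.toFinset, (χ : G → ℂ) t * conj ((χ : G → ℂ) y) = 0 := by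
  classical
  have := Fintype.ofFinite G
  have h2 : Nat.Prime 2 := Nat.prime_two
  obtain ⟨k, hk⟩ := exists_pow_eq_isPPart (G := G) h2
  have htt : t⁻¹ = t := inv_eq_of_mul_eq_one_right (by rw [← sq, ← ht]; exact pow_orderOf_eq_one t)
  have hconj : ∀ c g : G, (g * t * g⁻¹) * (c * y * c⁻¹) * (g * t * g⁻¹)⁻¹ ≠ (c * y * c⁻¹)⁻¹ := by
    intro c g h
    refine hinv (c⁻¹ * g) ?_
    calc c⁻¹ * g * t * (c⁻¹ * g)⁻¹ * y * (c⁻¹ * g * t * (c⁻¹ * g)⁻¹)⁻¹
        = c⁻¹ * ((g * t * g⁻¹) * (c * y * c⁻¹) * (g * t * g⁻¹)⁻¹) * c := by group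
      _ = c⁻¹ * (c * y * c⁻¹)⁻¹ * c := by rw [h]
      _ = y⁻¹ := by group
  have hy1 : y ≠ 1 := fun h => hinv 1 (by subst h; group)
  have hys : 2 ∣ orderOf y := by
    obtain ⟨e, he⟩ := hy
    rw [he]
    refine dvd_pow_self 2 fun he0 => hy1 ?_
    rw [he0, pow_zero] at he
    exact orderOf_eq_one_iff.1 he
  have hyy : IsPPart 2 y y := ⟨1, mul_one y, Commute.one_right y, hy, by simp⟩
  have htp : IsPPart 2 t t := ⟨1, mul_one t, Commute.one_right t, ⟨1, by rw [ht, pow_one]⟩, by simp⟩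
  refine ⟨?_, ?_, ?_⟩
  swap
  · rw [← finsum_block_eq_sum B fun χ : IrrCharacter G => (χ : G → ℂ) 1 * conj ((χ : G → ℂ) y)]
    exact finsum_block_regular_mul_conj_singular hM hB (by simp) hys
  swap
  · rw [← finsum_block_eq_sum B fun χ : IrrCharacter G => (χ : G → ℂ) t * conj ((χ : G → ℂ) y)]
    refine finsum_block_mul_conj_eq_zero_of_pPart hM hB htp hyy fun h => ?_
    obtain ⟨c, hc⟩ := isConj_iff.1 h.symm
    refine hinv c ?_
    rw [hc, mul_inv_cancel_right]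
    have hy2 : y * y = 1 := by
      rw [← hc]
      calc c * t * c⁻¹ * (c * t * c⁻¹) = c * (t * t) * c⁻¹ := by group
        _ = 1 := by rw [← sq, ← ht, pow_orderOf_eq_one]; group
    exact (inv_eq_of_mul_eq_one_right hy2).symm
  -- the class multiplication function of `t`
  set F : G → ℂ := ∑ χ : IrrCharacter G, ((χ : G → ℂ) t ^ 2 / (χ : G → ℂ) 1) • (χ : G → ℂ) with hF
  have hFzero : ∀ g : G, (∀ v, IsPPart 2 g v → IsConj y v) → F g = 0 := by
    intro g hg
    have hG0 : (Nat.card G : ℂ) ≠ 0 := Nat.cast_ne_zero.2 Nat.card_pos.ne'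
    refine mul_left_cancel₀ hG0 ?_
    rw [mul_zero, hF, Finset.sum_apply, Finset.mul_sum]
    have e : ∀ χ : IrrCharacter G,
        (Nat.card G : ℂ) * (((χ : G → ℂ) t ^ 2 / (χ : G → ℂ) 1) • (χ : G → ℂ)) g =
          ∑ a : G, (χ : G → ℂ) (t * (a * t * a⁻¹)) * (χ : G → ℂ) g := by
      intro χ
      rw [← Finset.sum_mul, Chars.sum_map_mul_conjugate, Pi.smul_apply, smul_eq_mul]
      ring
    rw [Finset.sum_congr rfl fun χ _ => e χ, Finset.sum_comm]
    refine Finset.sum_eq_zero fun a _ => ?_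
    have h := Chars.sum_irr_mul_map_inv (t * (a * t * a⁻¹)) g⁻¹
    rw [inv_inv] at h
    rw [h, if_neg]
    intro hc
    obtain ⟨c, hc⟩ := isConj_iff.1 hc
    obtain ⟨v, hv⟩ := exists_isPPart (p := 2) h2 g
    obtain ⟨b, hb⟩ := isConj_iff.1 (hg v hv)
    refine hconj b c ?_
    have hsg : (c * t * c⁻¹) * g * (c * t * c⁻¹)⁻¹ = g⁻¹ := by
      have hg' : g = (c * (t * (a * t * a⁻¹)) * c⁻¹)⁻¹ := by rw [hc, inv_inv]
      rw [hg']
      calc c * t * c⁻¹ * (c * (t * (a * t * a⁻¹)) * c⁻¹)⁻¹ * (c * t * c⁻¹)⁻¹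
          = c * t * (a * t⁻¹ * a⁻¹) * t⁻¹ * t⁻¹ * c⁻¹ := by group
        _ = c * (t * (a * t * a⁻¹)) * (t⁻¹ * t⁻¹) * c⁻¹ := by rw [htt]; group
        _ = c * (t * (a * t * a⁻¹)) * c⁻¹ := by
            rw [← mul_inv_rev, ← sq, ← ht, pow_orderOf_eq_one, inv_one]; group
        _ = _ := by group
    rw [hb, ← hk g v hv, ← conj_pow, hsg, inv_pow]
  have hFB : ∀ χ : IrrCharacter G,
      classInner F (χ : G → ℂ) = (χ : G → ℂ) t ^ 2 / (χ : G → ℂ) 1 := by
    intro χ
    rw [hF, Chars.classInner_sum_left]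
    simp only [Chars.classInner_smul_left, Chars.classInner_irr, mul_ite, mul_one, mul_zero,
      Finset.sum_ite_eq', Finset.mem_univ, if_true]
  rw [Finset.sum_congr rfl fun χ _ => by rw [← hFB χ]]
  simp only [classInner, mul_assoc, ← Finset.mul_sum]
  refine mul_eq_zero_of_right _ ?_
  simp only [Finset.sum_mul]
  rw [Finset.sum_comm]
  refine Finset.sum_eq_zero fun g _ => ?_
  by_cases hg : F g = 0
  · exact Finset.sum_eq_zero fun χ _ => by simp [hg]
  obtain ⟨v, hv⟩ := exists_isPPart (p := 2) h2 g⁻¹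
  obtain ⟨w, hw⟩ := exists_isPPart (p := 2) h2 g
  have hnc : ¬ IsConj y w := fun h => hg (hFzero g fun v' hv' =>
    (isPPart_unique h2 hv' hw) ▸ h)
  calc ∑ χ ∈ B.toFinite.toFinset, F g * conj ((χ : G → ℂ) g) * conj ((χ : G → ℂ) y)
      = F g * conj (∑ χ ∈ B.toFinite.toFinset, (χ : G → ℂ) g * (χ : G → ℂ) y) := by
        rw [map_sum, Finset.mul_sum]
        exact Finset.sum_congr rfl fun χ _ => by rw [map_mul]; ring
    _ = 0 := ?_
  have hy' : IsPPart 2 y⁻¹ y⁻¹ :=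
    ⟨1, mul_one _, Commute.one_right _, by simpa [orderOf_inv] using hy, by simp⟩
  -- `y⁻¹` is not conjugate to the `2`-part of `g` unless `F` vanishes at `g`
  by_cases hnc' : IsConj y⁻¹ w
  · refine absurd ?_ hg
    have hFzero' : ∀ g : G, (∀ v, IsPPart 2 g v → IsConj y⁻¹ v) → F g = 0 := by
      intro g hg'
      have h1 : F g⁻¹ = 0 := by
        refine hFzero g⁻¹ fun v hv => ?_
        obtain ⟨u, hu⟩ := exists_isPPart (p := 2) h2 g
        have hvu : v = u⁻¹ := by rw [← hk _ v hv, ← hk _ u hu, inv_pow]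
        obtain ⟨c, hc⟩ := isConj_iff.1 (hg' u hu)
        exact isConj_iff.2 ⟨c, by rw [hvu, ← hc]; group⟩
      have h3 : conj (F g) = F g⁻¹ := by
        simp only [hF, Finset.sum_apply, Pi.smul_apply, smul_eq_mul, map_sum, map_mul, map_div₀,
          map_pow, Chars.conj_map_one (Chars.isCharacter_coe _),
          ← Chars.map_inv_eq_conj (Chars.isCharacter_coe _), htt]
      rw [h1] at h3
      simpa using congrArg (starRingEnd ℂ) h3
    exact hFzero' g fun v' hv' => (isPPart_unique h2 hv' hw) ▸ hnc'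
  · have h := finsum_block_mul_conj_eq_zero_of_pPart hM hB hw hy' hnc'
    rw [finsum_block_eq_sum] at h
    have h' : ∑ χ ∈ B.toFinite.toFinset, (χ : G → ℂ) g * (χ : G → ℂ) y = 0 := by
      rw [← h]
      exact Finset.sum_congr rfl fun χ _ => by
        rw [← Chars.map_inv_eq_conj (Chars.isCharacter_coe χ), inv_inv]
    rw [h', map_zero, mul_zero]

/-- If only one coefficient is positive, the three equations force constant ratios. -/
theorem eq_ratio_of_one_pos {ι : Type*} (S : Finset ι) (z d x : ι → ℝ) (hd : ∀ i ∈ S, 0 < d i)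
    (h1 : ∑ i ∈ S, z i * d i = 0) (h2 : ∑ i ∈ S, z i * x i = 0)
    (h3 : ∑ i ∈ S, z i * (x i ^ 2 / d i) = 0)
    (hone : ∀ i ∈ S, ∀ j ∈ S, 0 < z i → 0 < z j → i = j) :
    ∀ i ∈ S, ∀ j ∈ S, z i ≠ 0 → z j ≠ 0 → x i * d j = x j * d i := by
  classical
  by_cases hpos : ∃ e ∈ S, 0 < z e
  swap
  · push Not at hpos
    intro i hi j _ hzi _
    have h := (Finset.sum_eq_zero_iff_of_nonpos fun k hk =>
      mul_nonpos_of_nonpos_of_nonneg (hpos k hk) (hd k hk).le).1 h1 i hi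
    exact absurd ((mul_eq_zero.1 h).resolve_right (hd i hi).ne') hzi
  obtain ⟨e, he, hze⟩ := hpos
  set r := x e / d e with hr
  have hsum : ∑ i ∈ S, z i * ((x i - r * d i) ^ 2 / d i) = 0 := by
    have e1 : ∀ i ∈ S, z i * ((x i - r * d i) ^ 2 / d i) =
        z i * (x i ^ 2 / d i) - 2 * r * (z i * x i) + r ^ 2 * (z i * d i) := by
      intro i hi
      field_simp [(hd i hi).ne']
      ring
    rw [Finset.sum_congr rfl e1, Finset.sum_add_distrib, Finset.sum_sub_distrib, ← Finset.mul_sum,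
      ← Finset.mul_sum, h1, h2, h3]
    ring
  have hterm : ∀ i ∈ S, z i * ((x i - r * d i) ^ 2 / d i) ≤ 0 := by
    intro i hi
    by_cases hzi : 0 < z i
    · rw [hone i hi e he hzi hze, hr, div_mul_cancel₀ _ (hd e he).ne', sub_self]
      simp
    · exact mul_nonpos_of_nonpos_of_nonneg (not_lt.1 hzi)
        (div_nonneg (sq_nonneg _) (hd i hi).le)
  have hx : ∀ i ∈ S, z i ≠ 0 → x i = r * d i := by
    intro i hi hzi
    have h := (Finset.sum_eq_zero_iff_of_nonpos hterm).1 hsum i hi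
    rw [mul_eq_zero, or_iff_right hzi, div_eq_zero_iff, or_iff_left (hd i hi).ne'] at h
    exact sub_eq_zero.1 (eq_zero_of_pow_eq_zero h)
  intro i hi j hj hzi hzj
  rw [hx i hi hzi, hx j hj hzj]
  ring

end CfsgLib.Blocks
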