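import Cfsg.Agent.Blocks.HeightZero.Scaled
import Cfsg.Agent.Blocks.LocalDivisibility
import Cfsg.Agent.Blocks.Orth.Subsection
import Cfsg.Agent.Chars.Brauer.Defect
import Cfsg.Agent.Chars.Exceptional.Inner

/-!
# The Brauer–Feit bound

The numbers `m(χ, ψ) = p ^ d * ⟨χ on the regular elements, ψ⟩` form an integer symmetric matrix
`m` with `m * m = p ^ d • m`; `p ^ h(ψ)` divides `m(χ, ψ)`, exactly when `χ` has height zero and
with one more factor `p` otherwise.
-/

set_option autoImplicit false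

namespace CfsgLib.Blocks.BrauerFeit

open Cfsg CfsgLib.Blocks CfsgLib.Blocks.HeightZero
open scoped ComplexConjugate

universe u

variable {G : Type u} [Group G] {p : ℕ} {M : Ideal AlgInt} {B : Set (IrrCharacter G)}

/-- An integer divisible by `p ^ h` in the local ring is divisible by it. -/
theorem pow_dvd_of_eq_mul (hM : IsPModular p M) :
    ∀ (h : ℕ) (m : ℤ) (y : ℂ), MemLocalRing M y → (m : ℂ) = (p : ℂ) ^ h * y → (p : ℤ) ^ h ∣ m := by
  have := isMaximal_of_isPModular hM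
  intro h
  induction h with
  | zero => intro m _ _ _; rw [pow_zero]; exact one_dvd _
  | succ h ih =>
    intro m y hy e
    have h1 : MemLocalIdeal M (m : ℂ) := by
      rw [e, pow_succ', mul_assoc]
      exact memLocalIdeal_mul_right (memLocalIdeal_natCast_self hM)
        ((localRing M).mul_mem ((localRing M).pow_mem (natCast_mem (localRing M) p) _) hy)
    rw [show ((m : ℂ)) = (((m : AlgInt)) : ℂ) by simp, memLocalIdeal_coe_iff,
      intCast_mem_iff hM] at h1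
    obtain ⟨t, rfl⟩ := h1
    rw [pow_succ']
    refine mul_dvd_mul_left _ (ih t y hy (mul_left_cancel₀
      (show (p : ℂ) ≠ 0 from Nat.cast_ne_zero.2 hM.1.ne_zero) ?_))
    rw [← mul_assoc, ← pow_succ']
    push_cast at e
    exact e

variable [Fintype G]

/-- The integers `p ^ d * ⟨χ on the regular elements, ψ⟩`. -/
theorem exists_regMatrix (hM : IsPModular p M) (hB : IsPBlock M B) :
    ∃ m : IrrCharacter G → IrrCharacter G → ℤ, ∀ χ ∈ B, ∀ ψ : IrrCharacter G,
      (m χ ψ : ℂ) = (p : ℂ) ^ blockDefect p B / (Nat.card G : ℂ) *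
        regPair p (χ : G → ℂ) (ψ : G → ℂ) := by
  classical
  suffices h : ∀ χ ψ : IrrCharacter G, ∃ z : ℤ, χ ∈ B →
      (z : ℂ) = (p : ℂ) ^ blockDefect p B / (Nat.card G : ℂ) *
        regPair p (χ : G → ℂ) (ψ : G → ℂ) by
    choose m hm using h
    exact ⟨m, fun χ hχ ψ => hm χ ψ hχ⟩
  intro χ ψ
  by_cases hχ : χ ∈ B
  swap
  · exact ⟨0, fun h => absurd h hχ⟩
  have hp := hM.1
  set a := (Nat.card G).factorization p with ha
  set e := (charDegree (χ : G → ℂ)).factorization p with he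
  set d := blockDefect p B with hd
  have hle : a - e ≤ d := by
    have := minExp_le (p := p) hχ
    rw [hd, blockDefect_eq]
    omega
  have hgen : IsGeneralizedCharacter G
      (fun g => ((p ^ (a - e) : ℕ) : ℂ) * pRegularPart p (χ : G → ℂ) g) :=
    Chars.Brauer.regularPart_gen hp χ (Nat.ordProj_mul_ordCompl_eq_self _ _).symm
      (Nat.not_dvd_ordCompl hp Nat.card_pos.ne') (Nat.ordProj_dvd _ _)
  obtain ⟨z, hz⟩ := Chars.Exceptional.gen_inner_int hgen
    (Chars.Exceptional.gen_of_char (Chars.isCharacter_coe ψ))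
  refine ⟨(p : ℤ) ^ (d - (a - e)) * z, fun _ => ?_⟩
  have h1 : classInner (fun g => ((p ^ (a - e) : ℕ) : ℂ) * pRegularPart p (χ : G → ℂ) g)
      (ψ : G → ℂ) = ((p ^ (a - e) : ℕ) : ℂ) * classInner (pRegularPart p (χ : G → ℂ)) (ψ : G → ℂ) :=
    Chars.classInner_smul_left _ _ _
  rw [h1, classInner_pRegularPart_eq _ (Chars.isCharacter_coe ψ)] at hz
  push_cast
  rw [← hz]
  push_cast
  rw [← mul_assoc, ← pow_add, Nat.sub_add_cancel hle, ← mul_assoc, div_eq_mul_inv]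

variable {m : IrrCharacter G → IrrCharacter G → ℤ}
  (hm : ∀ χ ∈ B, ∀ ψ : IrrCharacter G, (m χ ψ : ℂ) = (p : ℂ) ^ blockDefect p B /
    (Nat.card G : ℂ) * regPair p (χ : G → ℂ) (ψ : G → ℂ))
include hm

theorem regMatrix_symm {χ ψ : IrrCharacter G} (hχ : χ ∈ B) (hψ : ψ ∈ B) : m χ ψ = m ψ χ := by
  have h : ((m χ ψ : ℤ) : ℂ) = (m ψ χ : ℂ) := by rw [hm χ hχ ψ, hm ψ hψ χ, regPair_symm]
  exact_mod_cast h

/-- A row of the matrix has norm `p ^ d` times its diagonal entry. -/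
theorem sum_sq_regMatrix (hM : IsPModular p M) (hB : IsPBlock M B) {χ : IrrCharacter G}
    (hχ : χ ∈ B) :
    ∑ ψ ∈ B.toFinite.toFinset, m χ ψ ^ 2 = (p : ℤ) ^ blockDefect p B * m χ χ := by
  classical
  set f := pRegularPart p (χ : G → ℂ) with hf
  set c : IrrCharacter G → ℂ := fun ψ => classInner f (ψ : G → ℂ) with hc
  have hexp : f = ∑ ψ ∈ B.toFinite.toFinset, c ψ • (ψ : G → ℂ) := by
    have h1 := blockPart_pRegularPart hM hB (χ : G → ℂ)
    rw [blockPart_irr, Set.indicator_of_mem hχ, blockPart_apply_eq] at h1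
    exact h1.symm
  have hmc : ∀ ψ, (m χ ψ : ℂ) = (p : ℂ) ^ blockDefect p B * c ψ := fun ψ => by
    rw [hm χ hχ ψ, hc, hf]
    simp only
    rw [classInner_pRegularPart_eq _ (Chars.isCharacter_coe ψ), ← mul_assoc, div_eq_mul_inv]
  have hpd : ((p : ℂ) ^ blockDefect p B) ≠ 0 := pow_ne_zero _ (Nat.cast_ne_zero.2 hM.1.ne_zero)
  have hreal : ∀ ψ, conj (c ψ) = c ψ := fun ψ => by
    refine mul_left_cancel₀ hpd ?_
    rw [← hmc ψ]
    have h2 := congrArg (starRingEnd ℂ) (hmc ψ)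
    simpa using h2.symm
  have hnorm : c χ = ∑ ψ ∈ B.toFinite.toFinset, c ψ * c ψ := by
    have h3 : classInner f f = c χ := by
      simp only [hc, classInner]
      congr 1
      refine Finset.sum_congr rfl fun g _ => ?_
      by_cases hg : IsPRegular p g <;> simp [hf, pRegularPart, hg]
    rw [← h3]
    conv_lhs => arg 1; rw [hexp]
    rw [Chars.classInner_sum_left]
    refine Finset.sum_congr rfl fun ψ _ => ?_
    rw [Chars.classInner_smul_left, ← Chars.classInner_conj_symm]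
    show c ψ * conj (c ψ) = _
    rw [hreal]
  have key : ((∑ ψ ∈ B.toFinite.toFinset, m χ ψ ^ 2 : ℤ) : ℂ) =
      (((p : ℤ) ^ blockDefect p B * m χ χ : ℤ) : ℂ) := by
    push_cast
    simp only [hmc]
    rw [hnorm, Finset.mul_sum, Finset.mul_sum]
    exact Finset.sum_congr rfl fun ψ _ => by ring
  exact_mod_cast key

/-- The `p`-valuation of the entries. -/
theorem regMatrix_eq_pow_mul (hM : IsPModular p M) {χ ψ : IrrCharacter G} (hχ : χ ∈ B)
    (hψ : ψ ∈ B) :
    ∃ u : ℂ, MemLocalRing M u ∧ ¬ MemLocalIdeal M u ∧ (m χ ψ : ℂ) =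
      (p : ℂ) ^ blockHeight p B (ψ : G → ℂ) *
        (u * (regPair p (χ : G → ℂ) (ψ : G → ℂ) / (ψ : G → ℂ) 1)) := by
  have hp := hM.1
  set a := (Nat.card G).factorization p with ha
  set e := (charDegree (ψ : G → ℂ)).factorization p with he
  set d := blockDefect p B with hd
  set h := blockHeight p B (ψ : G → ℂ) with hh
  have h1 : d + e = h + a := by
    have h2 := minExp_le (p := p) hψ
    have h3 := minExp_le_card (p := p) hψ
    rw [hd, blockDefect_eq, hh, show blockHeight p B (ψ : G → ℂ) = e - minExp p B from rfl]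
    omega
  have hnum : p ^ d * charDegree (ψ : G → ℂ) ≠ 0 :=
    mul_ne_zero (pow_ne_zero _ hp.ne_zero) (Chars.charDegree_pos ψ).ne'
  have hden : p ^ h * Nat.card G ≠ 0 := mul_ne_zero (pow_ne_zero _ hp.ne_zero) Nat.card_pos.ne'
  have hfac : (p ^ d * charDegree (ψ : G → ℂ)).factorization p =
      (p ^ h * Nat.card G).factorization p := by
    rw [Nat.factorization_mul (pow_ne_zero _ hp.ne_zero) (Chars.charDegree_pos ψ).ne',
      Nat.factorization_mul (pow_ne_zero _ hp.ne_zero) Nat.card_pos.ne', Finsupp.add_apply,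
      Finsupp.add_apply, factorization_pow_prime hp, factorization_pow_prime hp]
    exact h1
  have hmax := isMaximal_of_isPModular hM
  refine ⟨_, memLocalRing_natCast_div hM hnum hden hfac.ge,
    not_memLocalIdeal_natCast_div hM hnum hden hfac, ?_⟩
  rw [hm χ hχ ψ]
  push_cast
  rw [Chars.coe_charDegree]
  have hp0 : (p : ℂ) ≠ 0 := Nat.cast_ne_zero.2 hp.ne_zero
  have hG0 : (Nat.card G : ℂ) ≠ 0 := Nat.cast_ne_zero.2 Nat.card_pos.ne'
  field_simp [Chars.map_one_ne_zero ψ]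

theorem pow_dvd_regMatrix (hM : IsPModular p M) {χ ψ : IrrCharacter G} (hχ : χ ∈ B) (hψ : ψ ∈ B) :
    (p : ℤ) ^ blockHeight p B (ψ : G → ℂ) ∣ m χ ψ := by
  have := isMaximal_of_isPModular hM
  obtain ⟨u, hu, -, e⟩ := regMatrix_eq_pow_mul hm hM hχ hψ
  exact pow_dvd_of_eq_mul hM _ _ _ ((localRing M).mul_mem hu
    (memLocalRing_regPair hM (Chars.isClassFunction_coe χ)
      (fun x _ => memLocalRing_apply (Chars.isCharacter_coe χ) x) ψ)) e

theorem regMatrix_ne_zero (hM : IsPModular p M) (hB : IsPBlock M B) {χ ψ : IrrCharacter G}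
    (hχ : χ ∈ B) (h0 : blockHeight p B (χ : G → ℂ) = 0) (hψ : ψ ∈ B) : m χ ψ ≠ 0 := by
  have := isMaximal_of_isPModular hM
  obtain ⟨u, hu, hu', e⟩ := regMatrix_eq_pow_mul hm hM hχ hψ
  intro hz
  rw [hz, Int.cast_zero] at e
  have h1 := (mul_eq_zero.1 e.symm).resolve_left (pow_ne_zero _ (Nat.cast_ne_zero.2 hM.1.ne_zero))
  refine not_memLocalIdeal_mul hu (memLocalRing_regPair hM (Chars.isClassFunction_coe χ)
    (fun x _ => memLocalRing_apply (Chars.isCharacter_coe χ) x) ψ) hu'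
    (not_memLocalIdeal_regPair_of_height_zero hM hB hχ h0 hψ) ?_
  rw [h1]
  exact memLocalIdeal_zero

theorem pow_succ_dvd_regMatrix_self (hM : IsPModular p M) (hB : IsPBlock M B) {χ : IrrCharacter G}
    (hχ : χ ∈ B) (h0 : blockHeight p B (χ : G → ℂ) ≠ 0) :
    (p : ℤ) ^ (blockHeight p B (χ : G → ℂ) + 1) ∣ m χ χ := by
  have := isMaximal_of_isPModular hM
  obtain ⟨t, ht⟩ := pow_dvd_regMatrix hm hM hχ hχ
  obtain ⟨u, hu, -, e⟩ := regMatrix_eq_pow_mul hm hM hχ hχ
  rw [ht] at e ⊢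
  push_cast at e
  have h1 := mul_left_cancel₀ (pow_ne_zero _ (Nat.cast_ne_zero.2 hM.1.ne_zero)) e
  have h2 : MemLocalIdeal M (t : ℂ) := by
    rw [h1]
    exact memLocalIdeal_mul_left hu
      (memLocalIdeal_regPair_of_height_ne_zero hM hB hχ fun _ => h0)
  rw [show ((t : ℂ)) = (((t : AlgInt)) : ℂ) by simp, memLocalIdeal_coe_iff, intCast_mem_iff hM] at h2
  rw [pow_succ]
  exact mul_dvd_mul_left _ h2

omit hm in
lemma four_mul_mul_sub_le (a x : ℤ) : 4 * (a * x - x ^ 2) ≤ a ^ 2 := by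
  nlinarith [sq_nonneg (a - 2 * x)]

/-- The off-diagonal part of a row. -/
theorem sum_sq_regMatrix_erase [DecidableEq (IrrCharacter G)] (hM : IsPModular p M)
    (hB : IsPBlock M B) {χ : IrrCharacter G} (hχ : χ ∈ B) :
    ∑ ψ ∈ B.toFinite.toFinset.erase χ, m χ ψ ^ 2 =
      (p : ℤ) ^ blockDefect p B * m χ χ - m χ χ ^ 2 := by
  have h := sum_sq_regMatrix hm hM hB hχ
  rw [← Finset.add_sum_erase _ _ ((B.toFinite.mem_toFinset).2 hχ)] at h
  linarith

omit hm in
/-- **The Brauer–Feit bound.** -/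
theorem four_mul_card_le (hM : IsPModular p M) (hB : IsPBlock M B) :
    4 * Nat.card B ≤ p ^ (2 * blockDefect p B) + 4 := by
  classical
  have := isMaximal_of_isPModular hM
  obtain ⟨m, hm⟩ := exists_regMatrix hM hB
  obtain ⟨χ, hχ, h0⟩ := exists_height_zero (p := p) hB
  have hcard : Nat.card B = (B.toFinite.toFinset.erase χ).card + 1 := by
    rw [Finset.card_erase_add_one ((B.toFinite.mem_toFinset).2 hχ),
      Nat.card_coe_set_eq, Set.ncard_eq_toFinset_card B B.toFinite]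
  have h1 : ((B.toFinite.toFinset.erase χ).card : ℤ) ≤
      (p : ℤ) ^ blockDefect p B * m χ χ - m χ χ ^ 2 := by
    rw [← sum_sq_regMatrix_erase hm hM hB hχ, Finset.cast_card]
    refine Finset.sum_le_sum fun ψ hψ => ?_
    have := regMatrix_ne_zero hm hM hB hχ h0
      ((B.toFinite.mem_toFinset).1 (Finset.mem_of_mem_erase hψ))
    have := sq_pos_of_ne_zero this
    omega
  have h2 := four_mul_mul_sub_le ((p : ℤ) ^ blockDefect p B) (m χ χ)
  rw [hcard]
  have : (4 : ℤ) * ((B.toFinite.toFinset.erase χ).card + 1) ≤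
      ((p ^ (2 * blockDefect p B) + 4 : ℕ) : ℤ) := by
    push_cast
    rw [mul_comm 2, pow_mul]
    linarith
  exact_mod_cast this

/-- A character of positive height `h`: `h + 2 ≤ d`, and there are at most `p^(2d-2)/4`
characters of height zero. -/
theorem height_bound (hM : IsPModular p M) (hB : IsPBlock M B) {χ : IrrCharacter G}
    (hχ : χ ∈ B) (h0 : blockHeight p B (χ : G → ℂ) ≠ 0) :
    blockHeight p B (χ : G → ℂ) + 2 ≤ blockDefect p B ∧
      4 * ((B.toFinite.toFinset.filter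
          fun ψ : IrrCharacter G => blockHeight p B (ψ : G → ℂ) = 0).card : ℤ) ≤
        (p : ℤ) ^ (2 * blockDefect p B - 2) := by
  classical
  have := isMaximal_of_isPModular hM
  set h := blockHeight p B (χ : G → ℂ) with hh
  set d := blockDefect p B with hd
  set S0 := B.toFinite.toFinset.filter fun ψ : IrrCharacter G => blockHeight p B (ψ : G → ℂ) = 0
  have hS0 : S0 ⊆ B.toFinite.toFinset.erase χ := by
    intro ψ hψ
    rw [Finset.mem_filter] at hψ
    exact Finset.mem_erase.2 ⟨fun e => h0 (by rw [hh, ← e]; exact hψ.2), hψ.1⟩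
  have hpp : (0 : ℤ) < p := by exact_mod_cast hM.1.pos
  have hterm : ∀ ψ ∈ S0, ((p : ℤ) ^ h) ^ 2 ≤ m χ ψ ^ 2 := by
    intro ψ hψ
    rw [Finset.mem_filter, Set.Finite.mem_toFinset] at hψ
    have hne : m χ ψ ≠ 0 := by
      rw [regMatrix_symm hm hχ hψ.1]
      exact regMatrix_ne_zero hm hM hB hψ.1 hψ.2 hχ
    have hdvd : (p : ℤ) ^ h ∣ m χ ψ := by
      rw [regMatrix_symm hm hχ hψ.1]
      exact pow_dvd_regMatrix hm hM hψ.1 hχ
    rw [← sq_abs (m χ ψ)]
    exact pow_le_pow_left₀ (by positivity)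
      (Int.le_of_dvd (abs_pos.2 hne) ((dvd_abs _ _).2 hdvd)) 2
  have hsum : (S0.card : ℤ) * ((p : ℤ) ^ h) ^ 2 ≤ (p : ℤ) ^ d * m χ χ - m χ χ ^ 2 := by
    rw [← sum_sq_regMatrix_erase hm hM hB hχ]
    refine le_trans ?_ (Finset.sum_le_sum_of_subset_of_nonneg hS0 fun ψ _ _ => sq_nonneg _)
    rw [← nsmul_eq_mul]
    exact Finset.card_nsmul_le_sum _ _ _ hterm
  obtain ⟨ψ₀, hψ₀, hψ₀0⟩ := exists_height_zero (p := p) hB
  have hne0 : 0 < S0.card := Finset.card_pos.2
    ⟨ψ₀, Finset.mem_filter.2 ⟨(B.toFinite.mem_toFinset).2 hψ₀, hψ₀0⟩⟩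
  obtain ⟨t, ht⟩ : (p : ℤ) ^ (h + 1) ∣ m χ χ := pow_succ_dvd_regMatrix_self hm hM hB hχ h0
  have hpos : 0 < (p : ℤ) ^ d * m χ χ - m χ χ ^ 2 :=
    lt_of_lt_of_le (mul_pos (by exact_mod_cast hne0) (by positivity)) hsum
  have hm0 : 0 < m χ χ := by
    by_contra hc
    nlinarith [pow_pos hpp d, not_lt.1 hc]
  have hlt : m χ χ < (p : ℤ) ^ d := by nlinarith
  have hh1 : h + 1 < d := by
    refine (pow_lt_pow_iff_right₀ (show (1 : ℤ) < p by exact_mod_cast hM.1.one_lt)).1 ?_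
    exact lt_of_le_of_lt (Int.le_of_dvd hm0 ⟨t, ht⟩) hlt
  refine ⟨hh1, ?_⟩
  obtain ⟨r, hr⟩ := Nat.exists_eq_add_of_le (show h + 1 ≤ d by omega)
  rw [hr, ht, pow_add] at hsum
  have h4 := four_mul_mul_sub_le ((p : ℤ) ^ r) t
  have key : 4 * (S0.card : ℤ) ≤ (p : ℤ) ^ 2 * ((p : ℤ) ^ r) ^ 2 := by
    have hph : (0 : ℤ) < ((p : ℤ) ^ h) ^ 2 := by positivity
    refine le_of_mul_le_mul_right ?_ hph
    have e : (p : ℤ) ^ (h + 1) * (p : ℤ) ^ r * ((p : ℤ) ^ (h + 1) * t) - ((p : ℤ) ^ (h + 1) * t) ^ 2 =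
        ((p : ℤ) ^ h) ^ 2 * (p : ℤ) ^ 2 * ((p : ℤ) ^ r * t - t ^ 2) := by
      rw [pow_succ]; ring
    rw [e] at hsum
    have h5 := mul_le_mul_of_nonneg_left h4
      (by positivity : (0 : ℤ) ≤ ((p : ℤ) ^ h) ^ 2 * (p : ℤ) ^ 2)
    linarith
  refine key.trans ?_
  rw [← pow_mul, ← pow_add]
  exact pow_le_pow_right₀ (by exact_mod_cast hM.1.one_le) (by omega)

omit hm in
/-- Brauer–Feit in the presence of positive height. -/
theorem two_mul_card_le_of_height (hM : IsPModular p M) (hB : IsPBlock M B)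
    (hex : ∃ χ ∈ B, 0 < blockHeight p B (χ : G → ℂ)) :
    2 * Nat.card B ≤ p ^ (2 * blockDefect p B - 2) := by
  classical
  have := isMaximal_of_isPModular hM
  obtain ⟨m, hm⟩ := exists_regMatrix hM hB
  obtain ⟨χ₁, hχ₁, hpos⟩ := hex
  obtain ⟨hd2, hk0⟩ := height_bound hm hM hB hχ₁ hpos.ne'
  obtain ⟨χ, hχ, h0⟩ := exists_height_zero (p := p) hB
  set d := blockDefect p B
  set S0 := B.toFinite.toFinset.filter fun ψ : IrrCharacter G => blockHeight p B (ψ : G → ℂ) = 0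
  set S1 := B.toFinite.toFinset.filter fun ψ : IrrCharacter G => ¬ blockHeight p B (ψ : G → ℂ) = 0
  have hS1 : S1 ⊆ B.toFinite.toFinset.erase χ := by
    intro ψ hψ
    rw [Finset.mem_filter] at hψ
    exact Finset.mem_erase.2 ⟨fun e => hψ.2 (by rw [e]; exact h0), hψ.1⟩
  have hterm : ∀ ψ ∈ S1, (p : ℤ) ^ 2 ≤ m χ ψ ^ 2 := by
    intro ψ hψ
    rw [Finset.mem_filter, Set.Finite.mem_toFinset] at hψ
    have hne := regMatrix_ne_zero hm hM hB hχ h0 hψ.1
    have hdvd := (dvd_pow_self (p : ℤ) hψ.2).trans (pow_dvd_regMatrix hm hM hχ hψ.1)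
    rw [← sq_abs (m χ ψ)]
    exact pow_le_pow_left₀ (by positivity)
      (Int.le_of_dvd (abs_pos.2 hne) ((dvd_abs _ _).2 hdvd)) 2
  have h1 : (S1.card : ℤ) * (p : ℤ) ^ 2 ≤ (p : ℤ) ^ d * m χ χ - m χ χ ^ 2 := by
    rw [← sum_sq_regMatrix_erase hm hM hB hχ]
    refine le_trans ?_ (Finset.sum_le_sum_of_subset_of_nonneg hS1 fun ψ _ _ => sq_nonneg _)
    rw [← nsmul_eq_mul]
    exact Finset.card_nsmul_le_sum _ _ _ hterm
  have h2 := four_mul_mul_sub_le ((p : ℤ) ^ d) (m χ χ)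
  have hk1 : 4 * (S1.card : ℤ) ≤ (p : ℤ) ^ (2 * d - 2) := by
    have hsq : ((p : ℤ) ^ d) ^ 2 = (p : ℤ) ^ (2 * d - 2) * (p : ℤ) ^ 2 := by
      rw [← pow_mul, ← pow_add]
      congr 1
      omega
    refine le_of_mul_le_mul_right ?_ (show (0 : ℤ) < (p : ℤ) ^ 2 by
      have := hM.1.pos; positivity)
    linarith
  have hcard : Nat.card B = S0.card + S1.card := by
    rw [Nat.card_coe_set_eq, Set.ncard_eq_toFinset_card B B.toFinite,
      ← Finset.card_filter_add_card_filter_not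
        (s := B.toFinite.toFinset) fun ψ : IrrCharacter G => blockHeight p B (ψ : G → ℂ) = 0]
  have : (2 : ℤ) * ((S0.card + S1.card : ℕ) : ℤ) ≤ ((p ^ (2 * d - 2) : ℕ) : ℤ) := by
    push_cast
    linarith
  rw [hcard]
  exact_mod_cast this

end CfsgLib.Blocks.BrauerFeit
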