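import Cfsg.Agent.Blocks.Orth.BrauerFeit

/-!
# The sum of the squares of the degrees in a block, and defects of classes in its support

`v_p (∑ χ(1)²) = v_p |G| + minExp`, and a class on which the idempotent is a unit has defect at
most the defect of the block.
-/

set_option autoImplicit false

namespace CfsgLib.Blocks

open Cfsg CfsgLib.Blocks.HeightZero

universe u

variable {G : Type u} [Group G] [Finite G] {p : ℕ} {M : Ideal AlgInt} {B : Set (IrrCharacter G)}

/-- The exact power of `p` in the sum of the squares of the degrees of a block. -/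
theorem factorization_sum_degree_sq (hM : IsPModular p M) (hB : IsPBlock M B) :
    (∑ χ ∈ B.toFinite.toFinset, charDegree (χ : G → ℂ) ^ 2) ≠ 0 ∧
    (∑ χ ∈ B.toFinite.toFinset, charDegree (χ : G → ℂ) ^ 2).factorization p =
      (Nat.card G).factorization p + minExp p B := by
  classical
  have := Fintype.ofFinite G
  have := isMaximal_of_isPModular hM
  have : Fact p.Prime := ⟨hM.1⟩
  obtain ⟨χ, hχ, h0⟩ := exists_height_zero (p := p) hB
  let P : Sylow p G := default
  have : Fintype (P : Subgroup G) := Fintype.ofFinite _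
  choose k hk using fun ψ : IrrCharacter G => exists_sum_subgroup_eq ψ (P : Subgroup G)
  set m := minExp p B with hm
  set S := B.toFinite.toFinset
  have hmem : ∀ ψ ∈ S, ψ ∈ B := fun ψ hψ => B.toFinite.mem_toFinset.1 hψ
  set K := ∑ ψ ∈ S, charDegree (ψ : G → ℂ) * k ψ with hK
  have hN : ∑ ψ ∈ S, charDegree (ψ : G → ℂ) ^ 2 = Nat.card (P : Subgroup G) * K := by
    have e : ((∑ ψ ∈ S, charDegree (ψ : G → ℂ) ^ 2 : ℕ) : ℂ) =
        ((Nat.card (P : Subgroup G) * K : ℕ) : ℂ) := by
      calc ((∑ ψ ∈ S, charDegree (ψ : G → ℂ) ^ 2 : ℕ) : ℂ)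
          = ∑ u : (P : Subgroup G), ∑ ψ ∈ S, (ψ : G → ℂ) 1 * (ψ : G → ℂ) u := by
            rw [Finset.sum_eq_single (1 : (P : Subgroup G))]
            · push_cast
              simp [Chars.coe_charDegree, sq]
            · intro u _ hu
              rw [← finsum_block_eq_sum B (fun ψ : IrrCharacter G => (ψ : G → ℂ) 1 * (ψ : G → ℂ) u)]
              refine finsum_block_one_mul_singular hM hB ?_
              obtain ⟨j, hj⟩ := IsPGroup.iff_orderOf.1 P.isPGroup' u
              rw [Subgroup.orderOf_coe, hj]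
              refine dvd_pow_self p fun hj0 => hu ?_
              rw [hj0, pow_zero] at hj
              exact orderOf_eq_one_iff.1 hj
            · exact fun h => absurd (Finset.mem_univ _) h
        _ = _ := by
            rw [Finset.sum_comm, hK]
            push_cast
            rw [Finset.mul_sum]
            refine Finset.sum_congr rfl fun ψ _ => ?_
            rw [← Finset.mul_sum, hk ψ, Chars.coe_charDegree]
            ring
    exact_mod_cast e
  have hdvd : p ^ m ∣ K := Finset.dvd_sum fun ψ hψ => (Dvd.dvd.trans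
    (pow_dvd_pow p (minExp_le (hmem ψ hψ))) (Nat.ordProj_dvd _ _)).mul_right _
  have hpm : (p ^ m : ℕ) ≠ 0 := pow_ne_zero _ hM.1.ne_zero
  have hKnd : ¬ p ∣ K / p ^ m := by
    intro hdiv
    set c := regPair p (χ : G → ℂ) (χ : G → ℂ) / (χ : G → ℂ) 1 with hc
    have hcloc : MemLocalRing M c := memLocalRing_regPair hM (Chars.isClassFunction_coe χ)
      (fun x _ => memLocalRing_apply (Chars.isCharacter_coe χ) x) χ
    have hsum := sum_regPair_mul_mult hM hB hχ P k hk
    set w : IrrCharacter G → ℂ :=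
      fun ψ => (charDegree (ψ : G → ℂ) : ℂ) / ((p ^ m : ℕ) : ℂ) * k ψ with hw
    have hwloc : ∀ ψ ∈ S, MemLocalRing M (w ψ) := fun ψ hψ =>
      (localRing M).mul_mem (memLocalRing_natCast_div hM (Chars.charDegree_pos ψ).ne' hpm
        (by rw [factorization_pow_prime hM.1]; exact minExp_le (hmem ψ hψ)))
        (natCast_mem (localRing M) _)
    have h1 : Congr M (∑ ψ ∈ S, (regPair p (χ : G → ℂ) (ψ : G → ℂ) / (ψ : G → ℂ) 1) * w ψ)
        (∑ ψ ∈ S, c * w ψ) := congr_sum _ fun ψ hψ =>
      (congr_regPair hM (Chars.isClassFunction_coe χ)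
        (fun x _ => memLocalRing_apply (Chars.isCharacter_coe χ) x) hB (hmem ψ hψ) hχ).mul
        (congr_refl _) hcloc (hwloc ψ hψ)
    have h2 : ∑ ψ ∈ S, c * w ψ = c * (((K / p ^ m : ℕ)) : ℂ) := by
      rw [← Finset.mul_sum, Nat.cast_div hdvd (Nat.cast_ne_zero.2 hpm), hK]
      push_cast
      rw [Finset.sum_div]
      congr 1
      refine Finset.sum_congr rfl fun ψ _ => ?_
      simp only [hw]
      push_cast
      ring
    have hu : (charDegree (χ : G → ℂ)).factorization p = m := (blockHeight_eq_zero_iff' hχ).1 h0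
    have h3 : ∑ ψ ∈ S, (regPair p (χ : G → ℂ) (ψ : G → ℂ) / (ψ : G → ℂ) 1) * w ψ =
        (((P : Subgroup G).index * (charDegree (χ : G → ℂ) / p ^ m) : ℕ) : ℂ) := by
      rw [Nat.cast_mul, Nat.cast_div (hu ▸ Nat.ordProj_dvd _ _) (Nat.cast_ne_zero.2 hpm),
        Chars.coe_charDegree, ← mul_div_assoc, ← hsum, Finset.sum_div]
      refine Finset.sum_congr rfl fun ψ _ => ?_
      simp only [hw]
      rw [Chars.coe_charDegree]
      field_simp [Chars.map_one_ne_zero ψ]
    rw [h2, h3] at h1
    have h4 := h1.mem_iff.2 (memLocalIdeal_mul_left hcloc ((memLocalIdeal_natCast_iff hM _).2 hdiv))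
    rw [memLocalIdeal_natCast_iff hM] at h4
    rcases hM.1.dvd_mul.1 h4 with h | h
    · exact P.not_dvd_index h
    · rw [← hu] at h
      exact Nat.not_dvd_ordCompl hM.1 (Chars.charDegree_pos χ).ne' h
  have hK0 : K ≠ 0 := fun h => hKnd (by rw [h, Nat.zero_div]; exact dvd_zero p)
  refine ⟨by rw [hN]; exact mul_ne_zero Nat.card_pos.ne' hK0, ?_⟩
  rw [hN, Nat.factorization_mul Nat.card_pos.ne' hK0, Finsupp.add_apply,
    P.card_eq_multiplicity, factorization_pow_prime hM.1]
  congr 1
  have hK' : K = p ^ m * (K / p ^ m) := (Nat.mul_div_cancel' hdvd).symm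
  rw [hK', Nat.factorization_mul hpm (fun h => hKnd (by rw [h]; exact dvd_zero p)),
    Finsupp.add_apply, factorization_pow_prime hM.1,
    Nat.factorization_eq_zero_of_not_dvd hKnd, add_zero]

end CfsgLib.Blocks
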